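import Mathlib.AlgebraicGeometry.Morphisms.ClosedImmersion
import Mathlib.AlgebraicGeometry.Morphisms.QuasiCompact

/-!
# Closed subschemes representing a local condition, from a finite cover of the base
-/

set_option autoImplicit false
set_option linter.style.haveILetI false
set_option backward.isDefEq.respectTransparency false
set_option backward.isDefEq.respectTransparency.types false

universe u

open CategoryTheory Limits AlgebraicGeometry TopologicalSpace

noncomputable section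

namespace Groth.Agent.ZeroLocus10

theorem le_ker_of_fac {A Z T : Scheme.{u}} (z : A ⟶ Z) (c : Z ⟶ T) {g : A ⟶ T} (h : z ≫ c = g) : c.ker ≤ g.ker :=
  h ▸ z.le_ker_comp c

/-- A condition stable under composition and local on the source, represented over each piece of a finite
quasi-compact open cover by a closed subscheme, is represented by a closed subscheme. -/
theorem exists_closed_of_local {T : Scheme.{u}} (P : ∀ {T' : Scheme.{u}}, (T' ⟶ T) → Prop)
    (hcomp : ∀ {A B : Scheme.{u}} (a : A ⟶ B) (g : B ⟶ T), P g → P (a ≫ g))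
    (hloc : ∀ {A : Scheme.{u}} (g : A ⟶ T) (𝒰 : Scheme.OpenCover.{u} A), (∀ i, P (𝒰.f i ≫ g)) → P g)
    {α : Type u} [Finite α] (U : α → T.Opens) (hqc : ∀ a, QuasiCompact (U a).ι) (hU : ⨆ a, U a = ⊤)
    (h : ∀ a, ∃ (Z : Scheme.{u}) (c : Z ⟶ (U a).toScheme), IsClosedImmersion c ∧
      ∀ {A : Scheme.{u}} (g : A ⟶ (U a).toScheme), P (g ≫ (U a).ι) ↔ ∃ z, z ≫ c = g) :
    ∃ (Z : Scheme.{u}) (c : Z ⟶ T), IsClosedImmersion c ∧
      ∀ {A : Scheme.{u}} (g : A ⟶ T), P g ↔ ∃ z, z ≫ c = g := by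
  choose Z c hc hP using h
  haveI := hc
  haveI := hqc
  let π : ∀ a, Z a ⟶ T := fun a => c a ≫ (U a).ι
  have hπ : ∀ a, P (π a) := fun a => (hP a (c a)).2 ⟨𝟙 _, Category.id_comp _⟩
  let J : T.IdealSheafData := ⨅ a, (π a).ker
  -- the restriction of the candidate satisfies the condition over each piece
  have hle : ∀ b, (c b).ker ≤ (J.subschemeι ∣_ U b).ker := fun b => by
    rw [Scheme.IdealSheafData.le_def]
    intro W
    rw [Scheme.ker_morphismRestrict_ideal, Scheme.IdealSheafData.ker_subschemeι]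
    rw [show J.ideal = ⨅ a, (π a).ker.ideal from Scheme.IdealSheafData.ideal_iInf _, iInf_apply, le_iInf_iff]
    intro a
    rw [← Scheme.ker_morphismRestrict_ideal]
    obtain ⟨z, hz⟩ := (hP b (π a ∣_ U b)).1 (by rw [morphismRestrict_ι]; exact hcomp _ _ (hπ a))
    exact le_ker_of_fac z (c b) hz W
  have hJ : P J.subschemeι := by
    refine hloc _ (Scheme.openCoverOfIsOpenCover.{u} J.subscheme (fun b : α => J.subschemeι ⁻¹ᵁ U b)
      (show ⨆ b, J.subschemeι ⁻¹ᵁ U b = ⊤ by rw [← Scheme.Hom.preimage_iSup, hU]; rfl)) fun b => ?_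
    show P ((J.subschemeι ⁻¹ᵁ U b).ι ≫ J.subschemeι)
    rw [← morphismRestrict_ι]
    exact (hP b _).2 ⟨IsClosedImmersion.lift (c b) _ (hle b), IsClosedImmersion.lift_fac _ _ _⟩
  refine ⟨J.subscheme, J.subschemeι, inferInstance, fun {A} g => ⟨fun hg => ?_, ?_⟩⟩
  · refine ⟨IsClosedImmersion.lift J.subschemeι g ?_, IsClosedImmersion.lift_fac _ _ _⟩
    rw [Scheme.IdealSheafData.ker_subschemeι]
    refine Scheme.IdealSheafData.le_ofIdeals_iff.2 fun W => ?_
    intro x hx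
    refine RingHom.mem_ker.2 (A.sheaf.eq_of_locally_eq' (fun b => g ⁻¹ᵁ (U b ⊓ W.1)) (g ⁻¹ᵁ W.1)
      (fun b => homOfLE (g.preimage_mono inf_le_right)) ?_ _ _ fun b => ?_)
    · intro p hp
      obtain ⟨b, hb⟩ := Opens.mem_iSup.1 (hU.ge (Opens.mem_top (g p)))
      exact Opens.mem_iSup.2 ⟨b, hb, hp⟩
    obtain ⟨z, hz⟩ := (hP b (g ∣_ U b)).1 (by rw [morphismRestrict_ι]; exact hcomp _ _ hg)
    have h1 : (π b).ker ≤ ((g ⁻¹ᵁ U b).ι ≫ g).ker := by
      refine le_ker_of_fac z (π b) ?_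
      rw [← morphismRestrict_ι, ← hz, Category.assoc]
    have h2 : (((g ⁻¹ᵁ U b).ι ≫ g).app W.1).hom x = 0 :=
      Scheme.IdealSheafData.le_ofIdeals_iff.1 h1 W
        ((Scheme.IdealSheafData.le_def.1 (iInf_le (fun a => (π a).ker) b) W) hx)
    rw [map_zero]
    rw [Scheme.Hom.comp_app, Scheme.Opens.ι_app, CommRingCat.hom_comp, RingHom.comp_apply] at h2
    have hle' : g ⁻¹ᵁ (U b ⊓ W.1) ≤ (g ⁻¹ᵁ U b).ι ''ᵁ ((g ⁻¹ᵁ U b).ι ⁻¹ᵁ (g ⁻¹ᵁ W.1)) := fun p hp =>
      ⟨⟨p, hp.1⟩, hp.2, rfl⟩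
    have h3 := congrArg (A.presheaf.map (homOfLE hle').op).hom h2
    simp only [map_zero, CommRingCat.hom_comp, RingHom.comp_apply] at h3
    refine Eq.trans ?_ h3
    exact ConcreteCategory.congr_hom (A.presheaf.map_comp (homOfLE _).op (homOfLE hle').op) (g.app W.1 x)
  · rintro ⟨z, rfl⟩
    exact hcomp z _ hJ

end Groth.Agent.ZeroLocus10
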