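import Groth.Agent.Lib.ZeroLocus10.Hom
import Groth.Agent.Lib.ZeroLocus10.Glue
import Groth.Agent.Lib.AmpleImm18.Local
import Groth.Agent.Lib.CohFound.ProjQuot
import Groth.Agent.Lib.Exact8.StalkBC2
import Groth.Agent.Lib.CBC10.CorepHom
import Groth.Prelude.Def_FGA

/-!
# The vanishing locus of a homomorphism between pullbacks of coherent modules
-/

set_option autoImplicit false
set_option linter.style.haveILetI false
set_option linter.unusedSectionVars false
set_option backward.isDefEq.respectTransparency false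
set_option backward.isDefEq.respectTransparency.types false

universe u

open CategoryTheory CategoryTheory.Limits AlgebraicGeometry TopologicalSpace Opposite

noncomputable section

namespace Groth.Agent.ZeroLocus10

open CohFound in
attribute [-instance] abelianAb hasExtAb isGrothendieckAbelianAb enoughInjectivesAb

variable {X Y Y' : Scheme.{u}}

theorem map_comp_eq_zero_iff (a : Y' ⟶ Y) (b : Y ⟶ X) {M N : X.Modules} (φ : M ⟶ N) :
    (Scheme.Modules.pullback (a ≫ b)).map φ = 0 ↔
      (Scheme.Modules.pullback a).map ((Scheme.Modules.pullback b).map φ) = 0 := by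
  have hn := (Scheme.Modules.pullbackComp a b).hom.naturality φ
  simp only [Functor.comp_map] at hn
  constructor
  · intro h
    rw [h, comp_zero] at hn
    rwa [← cancel_mono ((Scheme.Modules.pullbackComp a b).hom.app N), zero_comp]
  · intro h
    rw [h, zero_comp] at hn
    rw [← cancel_epi ((Scheme.Modules.pullbackComp a b).hom.app M), comp_zero]
    exact hn.symm

theorem map_eq_zero_of_eq {a b : Y ⟶ X} (h : a = b) {M N : X.Modules} (φ : M ⟶ N)
    (h0 : (Scheme.Modules.pullback a).map φ = 0) : (Scheme.Modules.pullback b).map φ = 0 := by subst h; exact h0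

theorem map_comp_eq_zero (a : Y' ⟶ Y) (b : Y ⟶ X) {c : Y' ⟶ X} (hc : a ≫ b = c) {M N : X.Modules} (φ : M ⟶ N)
    (h0 : (Scheme.Modules.pullback b).map φ = 0) : (Scheme.Modules.pullback c).map φ = 0 :=
  map_eq_zero_of_eq hc φ ((map_comp_eq_zero_iff a b φ).2 (by rw [h0]; exact Functor.map_zero _ _ _))

theorem hom_eq_zero_of_cover {M N : X.Modules} (m : M ⟶ N) {ι : Type*} {Xi : ι → Scheme.{u}} (a : ∀ i, Xi i ⟶ X)
    [∀ i, IsOpenImmersion (a i)] (hcov : ∀ x, ∃ i, x ∈ Set.range (a i))
    (h : ∀ i, (Scheme.Modules.pullback (a i)).map m = 0) : m = 0 := by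
  refine Scheme.Modules.hom_ext _ _ fun V => ?_
  ext s
  refine (eq_zero_of_cover N (m.app V s) (fun i => a i ''ᵁ (a i ⁻¹ᵁ V))
    (fun i => Scheme.Hom.image_preimage_le _ _) (fun x hx => ?_) fun i => ?_).trans rfl
  · obtain ⟨i, y, rfl⟩ := hcov x
    exact Opens.mem_iSup.2 ⟨i, y, hx, rfl⟩
  · have hr : (Scheme.Modules.restrictFunctor (a i)).map m = 0 := by
      have hn := (Scheme.Modules.restrictFunctorIsoPullback (a i)).hom.naturality m
      rw [h i, comp_zero] at hn
      rwa [← cancel_mono ((Scheme.Modules.restrictFunctorIsoPullback (a i)).hom.app N), zero_comp]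
    rw [← M1.app_mres]
    exact congrArg (fun ψ => ψ.app (a i ⁻¹ᵁ V) (M1.mres M (Scheme.Hom.image_preimage_le _ _) s)) hr

variable {S : Scheme.{u}} (f : X ⟶ S) (E F : X.Modules)

set_option maxHeartbeats 2000000 in
/-- The vanishing locus of a homomorphism `E_T → F_T`. -/
theorem exists_vanishing [IsNoetherian S] [IsProper f] {n : ℕ} (i : X ⟶ CohB1.ProjSpaceOver n S) [IsImmersion i]
    (hi : i ≫ CohB1.ProjSpaceOver.toBase n S = f) (hE : Coh.IsCoh E) (hF : Coh.IsCoh F)
    (hFl : FlatMod.IsFlatOver f F) {T : Scheme.{u}} (t : T ⟶ S)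
    (φ : (Scheme.Modules.pullback (pullback.fst f t)).obj E ⟶ (Scheme.Modules.pullback (pullback.fst f t)).obj F) :
    ∃ (Z : Scheme.{u}) (c : Z ⟶ T), IsClosedImmersion c ∧ ∀ {X' A : Scheme.{u}} (g' : X' ⟶ pullback f t)
      (f' : X' ⟶ A) (g : A ⟶ T), IsPullback g' f' (pullback.snd f t) g →
        ((Scheme.Modules.pullback g').map φ = 0 ↔ ∃ z, z ≫ c = g) := by
  let pT := pullback.snd f t
  let P : ∀ {A : Scheme.{u}}, (A ⟶ T) → Prop := fun {A} g =>
    (Scheme.Modules.pullback (pullback.fst pT g)).map φ = 0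
  have hsquare : ∀ {X' A : Scheme.{u}} (g' : X' ⟶ pullback f t) (f' : X' ⟶ A) (g : A ⟶ T),
      IsPullback g' f' pT g → (P g ↔ (Scheme.Modules.pullback g').map φ = 0) := fun {X' A} g' f' g h =>
    ⟨fun h0 => map_comp_eq_zero h.isoPullback.hom _ h.isoPullback_hom_fst φ h0,
      fun h0 => map_comp_eq_zero h.isoPullback.inv _ h.isoPullback_inv_fst φ h0⟩
  have hcomp : ∀ {A B : Scheme.{u}} (a : A ⟶ B) (g : B ⟶ T), P g → P (a ≫ g) := fun {A B} a g h0 =>
    map_comp_eq_zero (pullback.lift (pullback.fst pT (a ≫ g)) (pullback.snd pT (a ≫ g) ≫ a)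
      (by rw [pullback.condition, Category.assoc])) _ (pullback.lift_fst _ _ _) φ h0
  have hloc : ∀ {A : Scheme.{u}} (g : A ⟶ T) (𝒰 : Scheme.OpenCover.{u} A), (∀ i, P (𝒰.f i ≫ g)) → P g :=
    fun {A} g 𝒰 h0 => by
      refine hom_eq_zero_of_cover _ (fun j => pullback.fst (pullback.snd pT g) (𝒰.f j)) (fun x => ?_) fun j => ?_
      · obtain ⟨y, hy⟩ := 𝒰.covers (pullback.snd pT g x)
        obtain ⟨z, hz, -⟩ := Scheme.Pullback.exists_preimage_pullback x y hy.symm
        exact ⟨_, z, hz⟩
      · rw [← map_comp_eq_zero_iff]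
        refine (hsquare _ (pullback.snd (pullback.snd pT g) (𝒰.f j)) (𝒰.f j ≫ g) ?_).1 (h0 j)
        exact (IsPullback.of_hasPullback (pullback.snd pT g) (𝒰.f j)).paste_horiz (IsPullback.of_hasPullback pT g)
  let α : Type u := S.affineCover.finiteSubcover.I₀
  let V : α → S.Opens := fun a => (S.affineCover.finiteSubcover.f a).opensRange
  have hV : ∀ a, IsAffineOpen (V a) := fun a => isAffineOpen_opensRange _
  suffices hloc' : ∀ a, ∃ (Z : Scheme.{u}) (c : Z ⟶ (t ⁻¹ᵁ V a).toScheme), IsClosedImmersion c ∧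
      ∀ {A : Scheme.{u}} (g : A ⟶ (t ⁻¹ᵁ V a).toScheme), P (g ≫ (t ⁻¹ᵁ V a).ι) ↔ ∃ z, z ≫ c = g by
    obtain ⟨Z, c, hc, hP⟩ := exists_closed_of_local (fun {A} g => P g) hcomp hloc (fun a => t ⁻¹ᵁ V a)
      (fun a => MorphismProperty.of_isPullback (isPullback_morphismRestrict t (V a)) inferInstance)
      (by rw [← Scheme.Hom.preimage_iSup, Scheme.OpenCover.iSup_opensRange]; rfl) hloc'
    exact ⟨Z, c, hc, fun g' f' g h => (hsquare g' f' g h).symm.trans (hP g)⟩
  intro a
  let U := t ⁻¹ᵁ V a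
  let ιV := (f ⁻¹ᵁ V a).ι
  haveI : IsLocallyNoetherian X := LocallyOfFiniteType.isLocallyNoetherian f
  haveI : CompactSpace X := QuasiCompact.compactSpace_of_compactSpace f
  haveI : CompactSpace (f ⁻¹ᵁ V a).toScheme :=
    isCompact_iff_compactSpace.1 (RA.isCompact_preimage f (hV a))
  let L := (Scheme.Modules.pullback i).obj (_root_.Twist.twistOver n S 1)
  have hampL : CohB1.IsAmple (L.restrict ιV) := AmpleImm18.isAmple_restrict_twistOver f i hi (hV a)
  have hcohV : ∀ {M : X.Modules}, Coh.IsCoh M → Coh.IsCoh ((Scheme.Modules.pullback ιV).obj M) := fun hM =>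
    (M1.isCoh_iff_isFP _).2 (M1.isFP_pullback ιV (M1.isFP_of_isCoh hM))
  let EV := (Scheme.Modules.pullback ιV).obj E
  let FV := (Scheme.Modules.pullback ιV).obj F
  obtain ⟨m, hm⟩ := RA.exists_globallyGenerated hampL EV (hcohV hE).1 (hcohV hE).2
  let PV := CohB1.tensorPow (L.restrict ιV) m
  have hPV : PicF.IsInvertible PV := M2.isInvertible_tensorPow hampL.1 m
  have hcohP : Coh.IsCoh PV := CohFound.isCoh_of_isFinLocFree (M2.isFinLocFree_of_isInvertible hPV)
  obtain ⟨k, p, hp⟩ := CohFound.exists_epi_freeMod (CohFound.isCoh_tensor (hcohV hE) hcohP) (hm m le_rfl)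
  haveI : Epi p := hp
  -- the piece of the family over `U`
  let a' := pullback.fst pT U.ι
  let f'' := pullback.snd pT U.ι
  let q := a' ≫ pullback.fst f t
  have hsq : IsPullback q f'' f (U.ι ≫ t) :=
    (IsPullback.of_hasPullback pT U.ι).paste_horiz (IsPullback.of_hasPullback f t)
  have hq : Set.range q ⊆ Set.range ιV := by
    rw [Scheme.Opens.range_ι]
    rintro _ ⟨z, rfl⟩
    show f (q z) ∈ V a
    rw [← Scheme.Hom.comp_apply, hsq.w, Scheme.Hom.comp_apply, Scheme.Hom.comp_apply]
    exact (f'' z).2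
  let j := IsOpenImmersion.lift ιV q hq
  have hj : j ≫ ιV = q := IsOpenImmersion.lift_fac _ _ _
  let eM : ∀ M : X.Modules, (Scheme.Modules.pullback j).obj ((Scheme.Modules.pullback ιV).obj M) ≅
      (Scheme.Modules.pullback a').obj ((Scheme.Modules.pullback (pullback.fst f t)).obj M) := fun M =>
    (Scheme.Modules.pullbackComp j ιV).app M ≪≫ (Scheme.Modules.pullbackCongr hj).app M ≪≫
      ((Scheme.Modules.pullbackComp a' (pullback.fst f t)).app M).symm
  let P'' := (Scheme.Modules.pullback j).obj PV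
  let F'' := (Scheme.Modules.pullback a').obj ((Scheme.Modules.pullback (pullback.fst f t)).obj F)
  let E'' := (Scheme.Modules.pullback a').obj ((Scheme.Modules.pullback (pullback.fst f t)).obj E)
  let p'' : FlatMod.freeMod _ k ⟶ CohB1.tensorMod E'' P'' :=
    (M2.freeModPullbackIso j k).inv ≫ (Scheme.Modules.pullback j).map p ≫ M2.pullCmp j EV PV ≫
      M2.tensorMap (eM E).hom (𝟙 P'')
  haveI : PreservesColimitsOfSize.{0, 0} (Scheme.Modules.pullback j) :=
    (Scheme.Modules.pullbackPushforwardAdjunction j).leftAdjoint_preservesColimits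
  haveI : IsIso (M2.tensorMap (eM E).hom (𝟙 P'')) := (M2.tensorIso (eM E) (Iso.refl P'')).isIso_hom
  haveI : Epi p'' := inferInstance
  haveI : IsProper f'' := MorphismProperty.of_isPullback (IsPullback.of_hasPullback pT U.ι) inferInstance
  haveI : LocallyOfFinitePresentation f'' := by
    haveI : LocallyOfFinitePresentation f := inferInstance
    exact MorphismProperty.of_isPullback hsq inferInstance
  have hfp : CohB1.IsFP (CohB1.tensorMod F'' P'') :=
    M1.isFP_of_isIso ((M2.pullTensorIso j FV PV) ≪≫ M2.tensorIso (eM F) (Iso.refl P''))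
      (M1.isFP_pullback j (M1.isFP_of_isCoh (CohFound.isCoh_tensor (hcohV hF) hcohP)))
  have hfl : FlatMod.IsFlatOver f'' (CohB1.tensorMod F'' P'') := by
    refine CBC10.isFlatOver_tensor_lf f'' ?_ (M2.isFinLocFree_of_isInvertible (PicLoc.isInvertible_pullback j hPV))
    exact Exact8.isFlatOver_pullback (IsPullback.of_hasPullback pT U.ι)
      (Exact8.isFlatOver_pullback (IsPullback.of_hasPullback f t) hFl)
  obtain ⟨Z, c, hc, hZ⟩ := exists_freeVanishing (f := f'') hfp hfl
    (p'' ≫ M2.tensorMap ((Scheme.Modules.pullback a').map φ) (𝟙 P''))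
  refine ⟨Z, c, hc, fun {A} g => ?_⟩
  have hsq' := (IsPullback.of_hasPullback f'' g).paste_horiz (IsPullback.of_hasPullback pT U.ι)
  rw [hsquare _ _ _ hsq', map_comp_eq_zero_iff, ← twist_vanishes_iff (pullback.fst f'' g)
    (PicLoc.isInvertible_pullback j hPV) p'']
  exact hZ _ _ _ (IsPullback.of_hasPullback f'' g)

end Groth.Agent.ZeroLocus10
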