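import Groth.Agent.Lib.ZeroLocus10.Uniform
import Groth.Agent.Lib.CBC10.NearG
import Groth.Agent.Lib.CBC10.GenRows
import Groth.Agent.Lib.FlatCx.Corep

/-!
# The zero locus of a global section of a module flat and proper over the base
-/

set_option autoImplicit false
set_option linter.style.haveILetI false
set_option linter.unusedSectionVars false
set_option backward.isDefEq.respectTransparency false
set_option backward.isDefEq.respectTransparency.types false

universe u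

open CategoryTheory CategoryTheory.Limits AlgebraicGeometry TopologicalSpace Opposite Groth.Agent.ModLimH13

noncomputable section

namespace Groth.Agent.ZeroLocus10

open CBC10

open CohFound in
attribute [-instance] abelianAb hasExtAb isGrothendieckAbelianAb enoughInjectivesAb

variable {X S : Scheme.{u}} {f : X ⟶ S} {F : X.Modules}

/-- The pullback of a global section vanishes. -/
def Van (s : Γ(F, (⊤ : X.Opens))) {X' : Scheme.{u}} (g' : X' ⟶ X) : Prop :=
  res' g' F (W := ⊤) (W' := ⊤) le_top s = 0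

theorem eq_zero_of_cover {Y : Scheme.{u}} (N : Y.Modules) {U : Y.Opens} (x : Γ(N, U)) {ι : Type*} (V : ι → Y.Opens)
    (hle : ∀ i, V i ≤ U) (hcov : U ≤ ⨆ i, V i) (h : ∀ i, M1.mres N (hle i) x = 0) : x = 0 :=
  TopCat.Sheaf.eq_of_locally_eq' (⟨N.presheaf, N.isSheaf⟩ : TopCat.Sheaf AddCommGrpCat Y) V U
    (fun i => homOfLE (hle i)) hcov x 0 fun i => (h i).trans (map_zero _).symm

/-- Near a model the vanishing of pullbacks is governed by an ideal. -/
theorem exists_ideal [IsProper f] [hF : Coh.IsQCoh F] (s : Γ(F, (⊤ : X.Opens))) {V : S.Opens} (M : Model f F V) :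
    ∃ I : Ideal Γ(S, V), ∀ {X' T : Scheme.{u}} (g' : X' ⟶ X) (f' : X' ⟶ T) (g : T ⟶ S)
      (_ : IsPullback g' f' f g) (W : T.Opens) (_ : IsAffineOpen W) (eW : W ≤ g ⁻¹ᵁ V),
      res' g' F (W := ⊤) (W' := f' ⁻¹ᵁ W) le_top s = 0 ↔ I ≤ RingHom.ker (g.appLE V W eW).hom := by
  haveI := fp_cok M.P (-((0 : ℕ) : ℤ))
  haveI hc : Module.Flat Γ(S, V) (FlatCxLib.Cok M.P (-((0 : ℕ) : ℤ))) := by
    haveI : ∀ i, Module.Flat Γ(S, V) (M.P.X i) := fun i => Module.Flat.of_projective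
    exact (FlatCxLib.preservesEpi_iff M.P (p := 1) (q := -((0 : ℕ) : ℤ)) (by simp)).1
      ⟨fun {A B} l _ => (ModuleCat.epi_iff_surjective _).2 fun y => ⟨0, (M.pos 1 one_pos B).elim _ _⟩⟩
  haveI : Module.Projective Γ(S, V) (FlatCxLib.Cok M.P (-((0 : ℕ) : ℤ))) :=
    Module.Flat.projective_of_finitePresentation
  let κ := FlatCxLib.corepIso M.P (p := -((0 : ℕ) : ℤ)) (sub_add_cancel _ 1)
  obtain ⟨Ψ₀, hΨ₀⟩ := exists_bc0Uniform F M.isAffine M.computes
  let sV : Γ((Scheme.Modules.pushforward f).obj F, V) := M1.mres F (le_top : f ⁻¹ᵁ V ≤ ⊤) s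
  -- the value of `Ψ₀` does not depend on the square
  let φ₀ := (κ.hom.app (ModuleCat.of Γ(S, V) Γ(S, V))).hom (Ψ₀.symm sV)
  refine ⟨LinearMap.range φ₀.hom, fun {X' T} g' f' g h W hW eW => ?_⟩
  letI := (g.appLE V W eW).hom.toAlgebra
  obtain ⟨Ψ, hΨ⟩ := hΨ₀ h hW eW
  have hval : res' g' F (W := ⊤) (W' := f' ⁻¹ᵁ W) le_top s =
      res' g' F (le_preimage_of_le (w := h.w) eW) (show Γ(F, f ⁻¹ᵁ V) from sV) := (res'_mres g' F _ _ s).symm
  have hz := hΨ (Ψ₀.symm sV)
  rw [LinearEquiv.apply_symm_apply] at hz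
  rw [hval, hz]
  refine (EmbeddingLike.map_eq_zero_iff (f := Ψ)).trans ?_
  let l : ModuleCat.of Γ(S, V) Γ(S, V) ⟶ ModuleCat.of Γ(S, V) Γ(T, W) :=
    ModuleCat.ofHom (Algebra.linearMap Γ(S, V) Γ(T, W))
  have hn : (κ.hom.app _).hom ((CohIII.TFun M.P (-((0 : ℕ) : ℤ))).map l (Ψ₀.symm sV)) = φ₀ ≫ l :=
    ConcreteCategory.congr_hom (κ.hom.naturality l) (Ψ₀.symm sV)
  have hinj : Function.Injective (κ.hom.app (ModuleCat.of Γ(S, V) Γ(T, W))).hom :=
    (ConcreteCategory.bijective_of_isIso (κ.hom.app (ModuleCat.of Γ(S, V) Γ(T, W)))).1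
  constructor
  · intro h0
    rw [h0, map_zero] at hn
    rintro _ ⟨q, rfl⟩
    exact (LinearMap.congr_fun (congrArg ModuleCat.Hom.hom hn) q).symm
  · intro h0
    refine hinj (hn.trans (Eq.trans ?_ (map_zero _).symm))
    exact ModuleCat.hom_ext (LinearMap.ext fun q => h0 ⟨q, rfl⟩)

/-- Vanishing is detected on affine opens of the base. -/
theorem van_iff_affine [IsProper f] (s : Γ(F, (⊤ : X.Opens))) {X' T : Scheme.{u}} (g' : X' ⟶ X) (f' : X' ⟶ T)
    {ι : Type*} (W : ι → T.Opens) (hW : ⨆ i, W i = ⊤) :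
    Van s g' ↔ ∀ i, res' g' F (W := ⊤) (W' := f' ⁻¹ᵁ W i) le_top s = 0 := by
  constructor
  · intro h i
    rw [← mres_res' g' F (W := ⊤) (W' := ⊤) le_top (le_top : f' ⁻¹ᵁ W i ≤ ⊤), h]
    exact map_zero _
  · intro h
    refine eq_zero_of_cover _ _ (fun i => f' ⁻¹ᵁ W i) (fun _ => le_top)
      (by rw [← Scheme.Hom.preimage_iSup, hW]; exact le_rfl) fun i => ?_
    rw [mres_res']
    exact h i

theorem le_ker_app {T : Scheme.{u}} (g : T ⟶ S) (U : S.Opens) (I : Ideal Γ(S, U))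
    (h : ∀ (W : T.Opens) (_ : IsAffineOpen W) (eW : W ≤ g ⁻¹ᵁ U), I ≤ RingHom.ker (g.appLE U W eW).hom) :
    I ≤ RingHom.ker (g.app U).hom := by
  intro a ha
  choose W hW hxW hle using fun x : (g ⁻¹ᵁ U : T.Opens) =>
    exists_isAffineOpen_mem_and_subset (X := T) (x := x.1) (U := g ⁻¹ᵁ U) x.2
  refine RingHom.mem_ker.2 (T.sheaf.eq_of_locally_eq' W (g ⁻¹ᵁ U) (fun x => homOfLE (hle x))
    (fun x hx => Opens.mem_iSup.2 ⟨⟨x, hx⟩, hxW _⟩) _ _ fun x => ?_)
  rw [map_zero]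
  exact h (W x) (hW x) (hle x) ha

theorem appLE_specMap_fromSpec {U : S.Opens} (hU : IsAffineOpen U) {B : CommRingCat.{u}} (φ : Γ(S, U) ⟶ B)
    (e : (⊤ : (Spec B).Opens) ≤ (Spec.map φ ≫ hU.fromSpec) ⁻¹ᵁ U) :
    (Spec.map φ ≫ hU.fromSpec).appLE U ⊤ e = φ ≫ (Scheme.ΓSpecIso B).inv := by
  rw [← Scheme.Hom.appLE_comp_appLE (Spec.map φ) hU.fromSpec U ⊤ ⊤ (by rw [hU.fromSpec_preimage_self]) le_top]
  have h1 : hU.fromSpec.appLE U ⊤ (by rw [hU.fromSpec_preimage_self]) = (Scheme.ΓSpecIso Γ(S, U)).inv := by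
    rw [Scheme.Hom.appLE, hU.fromSpec_app_self, Category.assoc, ← Functor.map_comp]
    simp
  have h2 : (Spec.map φ).appLE ⊤ ⊤ le_top = (Spec.map φ).appTop := by
    rw [Scheme.Hom.appTop, Scheme.Hom.app_eq_appLE]
    rfl
  rw [h1, h2, ← Scheme.ΓSpecIso_inv_naturality]

set_option maxHeartbeats 1000000 in
/-- The vanishing locus of a section is a closed subscheme. -/
theorem exists_zeroLocus [IsProper f] [LocallyOfFinitePresentation f] [hF : Coh.IsQCoh F] (hfp : CohB1.IsFP F)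
    (hfl : FlatMod.IsFlatOver f F) (s : Γ(F, (⊤ : X.Opens))) :
    ∃ (Z : Scheme.{u}) (c : Z ⟶ S), IsClosedImmersion c ∧ ∀ {X' T : Scheme.{u}} (g' : X' ⟶ X) (f' : X' ⟶ T)
      (g : T ⟶ S), IsPullback g' f' f g → (Van s g' ↔ ∃ z, z ≫ c = g) := by
  choose I hI using fun V : S.affineOpens => exists_ideal s (exists_model f F hfp hfl V.2).some
  -- vanishing is the inclusion of all the ideals in the kernels
  have key : ∀ {X' T : Scheme.{u}} (g' : X' ⟶ X) (f' : X' ⟶ T) (g : T ⟶ S), IsPullback g' f' f g →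
      (Van s g' ↔ ∀ V : S.affineOpens, I V ≤ RingHom.ker (g.app V.1).hom) := fun {X' T} g' f' g h => by
    constructor
    · intro hv V
      refine le_ker_app g V.1 _ fun W hW eW => (hI V g' f' g h W hW eW).1 ?_
      rw [← mres_res' g' F (W := ⊤) (W' := ⊤) le_top (le_top : f' ⁻¹ᵁ W ≤ ⊤), hv]
      exact map_zero _
    · intro hk
      choose W hW hxW hle using fun p : (V : S.affineOpens) × (g ⁻¹ᵁ V.1 : T.Opens) =>
        exists_isAffineOpen_mem_and_subset (X := T) (x := p.2.1) (U := g ⁻¹ᵁ p.1.1) p.2.2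
      refine (van_iff_affine (f := f) s g' f' W (top_le_iff.1 fun x _ => ?_)).2 fun p =>
        (hI p.1 g' f' g h (W p) (hW p) (hle p)).2 fun a ha => ?_
      · obtain ⟨V, hV, hxV, -⟩ := exists_isAffineOpen_mem_and_subset (X := S) (x := g x) (U := ⊤) trivial
        exact Opens.mem_iSup.2 ⟨⟨⟨V, hV⟩, ⟨x, hxV⟩⟩, hxW _⟩
      · have h0 : g.app p.1.1 a = 0 := hk p.1 ha
        show T.presheaf.map (homOfLE (hle p)).op (g.app p.1.1 a) = 0
        rw [h0, map_zero]
  -- the ideals are compatible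
  let J : S.IdealSheafData :=
    { ideal := I
      map_ideal_basicOpen := fun V a => by
        let D := S.affineBasicOpen a
        have hDV : D.1 ≤ V.1 := S.basicOpen_le a
        let r := S.presheaf.map (homOfLE hDV).op
        have hq : ∀ Q : Ideal Γ(S, D.1), (I V).map r.hom ≤ Q ↔ I D ≤ Q := fun Q => by
          let φ : Γ(S, D.1) ⟶ CommRingCat.of (Γ(S, D.1) ⧸ Q) := CommRingCat.ofHom (Ideal.Quotient.mk Q)
          let g := Spec.map φ ≫ D.2.fromSpec
          have eD : (⊤ : (Spec (CommRingCat.of (Γ(S, D.1) ⧸ Q))).Opens) ≤ g ⁻¹ᵁ D.1 := by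
            rw [Scheme.Hom.comp_preimage, D.2.fromSpec_preimage_self]; rfl
          have h := IsPullback.of_hasPullback f g
          have hker : RingHom.ker (g.appLE D.1 ⊤ eD).hom = Q := by
            rw [appLE_specMap_fromSpec, CommRingCat.hom_comp]
            refine (RingHom.ker_comp_of_injective _ ?_).trans Ideal.mk_ker
            exact ((Scheme.ΓSpecIso _).symm.commRingCatIsoToRingEquiv.injective)
          have e1 := hI V (pullback.fst f g) (pullback.snd f g) g h ⊤ (isAffineOpen_top _)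
            (eD.trans (g.preimage_mono hDV))
          have e2 := hI D (pullback.fst f g) (pullback.snd f g) g h ⊤ (isAffineOpen_top _) eD
          have e3 : g.appLE V.1 ⊤ (eD.trans (g.preimage_mono hDV)) = r ≫ g.appLE D.1 ⊤ eD :=
            (g.map_appLE eD (homOfLE hDV).op).symm
          rw [e3, CommRingCat.hom_comp, ← RingHom.comap_ker, ← Ideal.map_le_iff_le_comap, hker] at e1
          rw [hker] at e2
          exact e1.symm.trans e2
        exact le_antisymm ((hq (I D)).2 le_rfl) ((hq _).1 le_rfl) }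
  refine ⟨J.subscheme, J.subschemeι, inferInstance, fun {X' T} g' f' g h => ?_⟩
  rw [key g' f' g h]
  constructor
  · intro hk
    refine ⟨IsClosedImmersion.lift J.subschemeι g ?_, IsClosedImmersion.lift_fac _ _ _⟩
    rw [Scheme.IdealSheafData.ker_subschemeι]
    exact Scheme.IdealSheafData.le_ofIdeals_iff.2 hk
  · rintro ⟨z, rfl⟩ V
    have h1 : J ≤ (z ≫ J.subschemeι).ker := (J.ker_subschemeι).ge.trans (Scheme.Hom.le_ker_comp _ _)
    exact (Scheme.IdealSheafData.le_ofIdeals_iff.1 h1) V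

end Groth.Agent.ZeroLocus10
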