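import Groth.Agent.Lib.ZeroLocus10.Basic
import Groth.Agent.Lib.TensorNat17.Basic
import Groth.Agent.Lib.KFlat.LpullTensor
import Groth.Agent.Lib.TensorMod.Dual

/-!
# The vanishing locus of a homomorphism out of a quotient of a twisted free module
-/

set_option autoImplicit false
set_option linter.style.haveILetI false
set_option linter.unusedSectionVars false
set_option backward.isDefEq.respectTransparency false
set_option backward.isDefEq.respectTransparency.types false

universe u

open CategoryTheory CategoryTheory.Limits AlgebraicGeometry TopologicalSpace Opposite Groth.Agent.ModLimH13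

noncomputable section

namespace Groth.Agent.ZeroLocus10

open CohFound in
attribute [-instance] abelianAb hasExtAb isGrothendieckAbelianAb enoughInjectivesAb

variable {X S : Scheme.{u}} {f : X ⟶ S}

theorem map_eq_zero_iff_comp_unit {X' : Scheme.{u}} (g' : X' ⟶ X) {M N : X.Modules} (ψ : M ⟶ N) :
    (Scheme.Modules.pullback g').map ψ = 0 ↔
      ψ ≫ (Scheme.Modules.pullbackPushforwardAdjunction g').unit.app N = 0 := by
  let adj := Scheme.Modules.pullbackPushforwardAdjunction g'
  have hn : adj.unit.app M ≫ (Scheme.Modules.pushforward g').map ((Scheme.Modules.pullback g').map ψ) =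
      ψ ≫ adj.unit.app N := (adj.unit.naturality ψ).symm
  constructor
  · intro h
    rw [h, Functor.map_zero, comp_zero] at hn
    exact hn.symm
  · intro h
    refine (adj.homEquiv _ _).injective ?_
    rw [Adjunction.homEquiv_unit, Adjunction.homEquiv_unit, Functor.map_zero, comp_zero, hn]
    exact h

theorem map_eq_zero_iff_van {X' : Scheme.{u}} (g' : X' ⟶ X) {N : X.Modules} (ξ : Coh.structureModule X ⟶ N) :
    (Scheme.Modules.pullback g').map ξ = 0 ↔ Van (ξ.app ⊤ (M1.one ⊤)) g' := by
  rw [map_eq_zero_iff_comp_unit]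
  have hr : ∀ x : Γ((Scheme.Modules.pullback g').obj N, g' ⁻¹ᵁ (⊤ : X.Opens)),
      M1.mres ((Scheme.Modules.pullback g').obj N) (le_top : (⊤ : X'.Opens) ≤ g' ⁻¹ᵁ (⊤ : X.Opens)) x = 0 ↔ x = 0 :=
    fun x => ⟨fun h => (M1.mres_id ((Scheme.Modules.pullback g').obj N) le_rfl x).symm.trans h, fun h => by rw [h]; exact map_zero _⟩
  constructor
  · intro h
    exact (hr _).2 (congrArg (fun ψ => ψ.app ⊤ (M1.one ⊤)) h)
  · intro h
    exact M1.unit_hom_ext ((hr _).1 h)

/-- The locus where a map out of a finite free module vanishes. -/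
theorem exists_freeVanishing [IsProper f] [LocallyOfFinitePresentation f] {G : X.Modules} (hfp : CohB1.IsFP G)
    (hfl : FlatMod.IsFlatOver f G) {k : ℕ} (ψ : FlatMod.freeMod X k ⟶ G) :
    ∃ (Z : Scheme.{u}) (c : Z ⟶ S), IsClosedImmersion c ∧ ∀ {X' T : Scheme.{u}} (g' : X' ⟶ X) (f' : X' ⟶ T)
      (g : T ⟶ S), IsPullback g' f' f g → ((Scheme.Modules.pullback g').map ψ = 0 ↔ ∃ z, z ≫ c = g) := by
  haveI : Coh.IsQCoh G := M1.isFP_isQCoh hfp
  choose Z c hc hV using fun l : Fin k =>
    exists_zeroLocus (f := f) hfp hfl ((Sigma.ι (fun _ : Fin k => Coh.structureModule X) l ≫ ψ).app ⊤ (M1.one ⊤))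
  haveI := hc
  let J : S.IdealSheafData := ⨆ l, (c l).ker
  refine ⟨J.subscheme, J.subschemeι, inferInstance, fun {X' T} g' f' g h => ?_⟩
  have e : (Scheme.Modules.pullback g').map ψ = 0 ↔ ∀ l, ∃ z, z ≫ c l = g := by
    simp_rw [← hV _ g' f' g h, ← map_eq_zero_iff_van, map_eq_zero_iff_comp_unit, Category.assoc]
    exact ⟨fun h0 l => by rw [h0, comp_zero], fun h0 => Sigma.hom_ext _ _ fun l => by
      rw [comp_zero]; exact h0 l⟩
  rw [e]
  constructor
  · intro hz
    refine ⟨IsClosedImmersion.lift J.subschemeι g ?_, IsClosedImmersion.lift_fac _ _ _⟩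
    rw [Scheme.IdealSheafData.ker_subschemeι]
    exact iSup_le fun l => (hz l).choose_spec ▸ (hz l).choose.le_ker_comp (c l)
  · rintro ⟨z, rfl⟩ l
    refine ⟨IsClosedImmersion.lift (c l) _ ?_, IsClosedImmersion.lift_fac _ _ _⟩
    refine le_trans ?_ (Scheme.Hom.le_ker_comp _ _)
    rw [Scheme.IdealSheafData.ker_subschemeι]
    exact le_iSup (fun l => (c l).ker) l

theorem eq_zero_of_tensor_invertible {M N P : X.Modules} (hP : PicF.IsInvertible P) (α : M ⟶ N)
    (h : M2.tensorMap α (𝟙 P) = 0) : α = 0 := by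
  obtain ⟨D, -, ⟨e⟩⟩ := M2.exists_inverse hP
  have h1 : M2.tensorMap (M2.tensorMap α (𝟙 P)) (𝟙 D) = 0 := by
    rw [h]
    exact (M2.tensorR D).map_zero _ _
  have h2 : M2.tensorMap α (M2.tensorMap (𝟙 P) (𝟙 D)) = 0 := by
    rw [← cancel_epi (M2.tensorAssoc M P D).hom, ← M2.tensorAssoc_natural, h1, zero_comp, comp_zero]
  rw [M2.tensorMap_id] at h2
  have h3 : M2.tensorMap α (𝟙 (Coh.structureModule X)) = 0 := by
    have : M2.tensorMap α (𝟙 (Coh.structureModule X)) =
        M2.tensorMap (𝟙 M) e.inv ≫ M2.tensorMap α (𝟙 (CohB1.tensorMod P D)) ≫ M2.tensorMap (𝟙 N) e.hom := by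
      rw [← M2.tensorMap_comp, ← M2.tensorMap_comp, Category.id_comp, Category.comp_id, Category.id_comp,
        e.inv_hom_id]
    rw [this, h2, zero_comp, comp_zero]
  rw [← cancel_epi (M2.tensorRUnit M).hom, ← M2.tensorRUnit_natural, h3, zero_comp, comp_zero]

/-- Vanishing of a map is that of its twist precomposed with an epimorphism. -/
theorem twist_vanishes_iff {X' : Scheme.{u}} (g' : X' ⟶ X) {E F P W : X.Modules} (hP : PicF.IsInvertible P)
    (p : W ⟶ CohB1.tensorMod E P) [Epi p] (φ : E ⟶ F) :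
    (Scheme.Modules.pullback g').map (p ≫ M2.tensorMap φ (𝟙 P)) = 0 ↔ (Scheme.Modules.pullback g').map φ = 0 := by
  haveI : PreservesColimitsOfSize.{0, 0} (Scheme.Modules.pullback g') :=
    (Scheme.Modules.pullbackPushforwardAdjunction g').leftAdjoint_preservesColimits
  haveI : Epi ((Scheme.Modules.pullback g').map p) := inferInstance
  have hnat := KFlat.Sch.pullCmp_natural g' φ (𝟙 P)
  rw [(Scheme.Modules.pullback g').map_id] at hnat
  constructor
  · intro h
    refine eq_zero_of_tensor_invertible (PicLoc.isInvertible_pullback g' hP) _ ?_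
    have h1 : (Scheme.Modules.pullback g').map (M2.tensorMap φ (𝟙 P)) = 0 := by
      rw [← cancel_epi ((Scheme.Modules.pullback g').map p), ← Functor.map_comp, h, comp_zero]
    rw [← cancel_epi (M2.pullCmp g' E P), comp_zero, ← hnat, h1, zero_comp]
  · intro h
    have h1 : (Scheme.Modules.pullback g').map (M2.tensorMap φ (𝟙 P)) = 0 := by
      have h0 : M2.tensorMap ((Scheme.Modules.pullback g').map φ) (𝟙 ((Scheme.Modules.pullback g').obj P)) = 0 := by
        rw [h]
        exact (M2.tensorR _).map_zero _ _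
      rw [← cancel_mono (M2.pullCmp g' F P), hnat, h0, comp_zero, zero_comp]
    rw [Functor.map_comp, h1, comp_zero]

end Groth.Agent.ZeroLocus10
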