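import Groth.Agent.Lib.CBC10.Bc0

/-!
# The degree zero model, uniformly in the base change
-/

set_option autoImplicit false
set_option linter.style.haveILetI false
set_option linter.unusedSectionVars false
set_option maxHeartbeats 2000000

universe u

open CategoryTheory CategoryTheory.Limits AlgebraicGeometry TopologicalSpace Opposite Groth.Agent.ModLimH13

noncomputable section

namespace Groth.Agent.CBC10

open CohFound in
attribute [-instance] abelianAb hasExtAb isGrothendieckAbelianAb enoughInjectivesAb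

section Model

open Groth.Agent.CohFound Abelian

variable {A B : Type u} [CommRing A] [CommRing B] [Algebra A B] {X X' : Scheme.{u}}
  [X.Over (Spec (CommRingCat.of A))] [X'.Over (Spec (CommRingCat.of B))] [X'.Over (Spec (CommRingCat.of A))]

variable {g : X' ⟶ X} {ι : Type u} [Finite ι] {U : ι → X.Opens} (hcov : (⊤ : X.Opens) ≤ iSup U)
  (hU : ∀ (n : ℕ) (a : Fin (n + 1) → ι), IsAffineOpen (tupOpen (X := sp X) U a))
  {F : X.Modules} {N : X'.Modules}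

/-- The Čech model of `H^p(X, F)` in degree `p`. -/
def phiModel (hF : Coh.IsQCoh F) (p : ℕ) :
    CohIII.T (K A U F) (p : ℤ) (ModuleCat.of A A) ≃ₗ[A] Coh.HH X F p :=
  ((HomologicalComplex.homologyFunctor _ _ (p : ℤ)).mapIso
      ((NatIso.mapHomologicalComplex (MonoidalCategory.rightUnitorNatIso (ModuleCat.{u} A))
        (ComplexShape.up ℤ)).app (K A U F) ≪≫ (Functor.mapHomologicalComplexIdIso _ _).app (K A U F))).toLinearEquiv.trans
    (hhEquiv (A := A) hcov (acyc_of_isQCoh hF hU) p)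

include hcov hU in
/-- The Čech models of `H^p(X, F)` and `H^p(X', N)` and of the pullback map between them. -/
theorem exists_pullModel_phi (h : Sq (A := A) (B := B) g) [IsAffineHom g] (hF : Coh.IsQCoh F)
    (φ : (Scheme.Modules.pullback g).obj F ≅ N) :
    ∃ (Φ' : ∀ p : ℕ, CohIII.T (K A U F) (p : ℤ) (ModuleCat.of A B) ≃+ Coh.HH X' N p),
      ∀ (p : ℕ) z, pullF g.base (abMap g (unitTo φ)) p (phiModel hcov hU hF p z) =
        Φ' p ((CohIII.TFun (K A U F) (p : ℤ)).map (ModuleCat.ofHom (Algebra.linearMap A B)) z) := by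
  have hN : Coh.IsQCoh N := M1.isQCoh_of_isIso φ (M1.isQCoh_pullback g hF)
  have hP : Coh.IsQCoh ((Scheme.Modules.pushforward g).obj N) := M1.isQCoh_push g hN
  haveI := isIso_chiP U h φ hF hU
  let hh := hhEquiv (A := A) hcov (acyc_of_isQCoh hP hU)
  let q : ∀ p : ℕ, CohIII.T (K A U F) (p : ℤ) (ModuleCat.of A B) ≃+ (K A U ((Scheme.Modules.pushforward g).obj N)).homology (p : ℤ) :=
    fun p => ((HomologicalComplex.homologyFunctor _ _ (p : ℤ)).mapIso (asIso (chiP U h φ))).toLinearEquiv.toAddEquiv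
  let Φ' : ∀ p : ℕ, CohIII.T (K A U F) (p : ℤ) (ModuleCat.of A B) ≃+ Coh.HH X' N p := fun p =>
    ((q p).trans (hh p).toAddEquiv).trans
      (AddEquiv.ofBijective (edgeF (g.base : sp X' ⟶ sp X) ((abF X').obj N) p) (bijective_edgeF_affine g hN p))
  refine ⟨Φ', fun p z => ?_⟩
  have h1 := congrArg (fun f => HomologicalComplex.homologyMap f (p : ℤ)) (chiP_unit U h φ)
  simp only [HomologicalComplex.homologyMap_comp] at h1
  refine (pullF_eq_edgeF g.base _ p (phiModel hcov hU hF p z)).trans (congrArg (edgeF g.base _ p) ?_)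
  refine (hhEquiv_natural (A := A) hcov (acyc_of_isQCoh hF hU) (acyc_of_isQCoh hP hU) (unitTo φ) p _).symm.trans ?_
  exact congrArg (hh p) (ConcreteCategory.congr_hom h1 z).symm

end Model

variable {X S : Scheme.{u}} {f : X ⟶ S}

/-- The degree zero model, with `Ψ₀` independent of the base change. -/
theorem exists_bc0Uniform [IsSeparated f] [QuasiCompact f] (F : X.Modules) [hF : Coh.IsQCoh F] {V : S.Opens}
    (hV : IsAffineOpen V) {P : ChainComplex (ModuleCat.{u} Γ(S, V)) ℤ} (hP : ComputesOn f F hV P) :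
    ∃ Ψ₀ : CohIII.T P (-((0 : ℕ) : ℤ)) (ModuleCat.of Γ(S, V) Γ(S, V)) ≃ₗ[Γ(S, V)]
        Γ((Scheme.Modules.pushforward f).obj F, V),
      ∀ {X' S' : Scheme.{u}} {g : S' ⟶ S} {f' : X' ⟶ S'} {g' : X' ⟶ X} (h : IsPullback g' f' f g)
        {W : S'.Opens} (_ : IsAffineOpen W) (eW : W ≤ g ⁻¹ᵁ V),
        letI := (g.appLE V W eW).hom.toAlgebra
        ∃ Ψ : CohIII.T P (-((0 : ℕ) : ℤ)) (ModuleCat.of Γ(S, V) Γ(S', W)) ≃+
            Γ((Scheme.Modules.pushforward f').obj ((Scheme.Modules.pullback g').obj F), W),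
          ∀ z, res' g' F (le_preimage_of_le (w := h.w) eW) (show Γ(F, f ⁻¹ᵁ V) from Ψ₀ z) =
            Ψ ((CohIII.TFun P (-((0 : ℕ) : ℤ))).map (ModuleCat.ofHom (Algebra.linearMap Γ(S, V) Γ(S', W))) z) := by
  letI := overU f hV
  let X₁ : Scheme.{u} := (f ⁻¹ᵁ V : X.Opens)
  haveI : IsSeparated (X₁ ↘ Spec (CommRingCat.of Γ(S, V))) :=
    inferInstanceAs (IsSeparated (f ∣_ V ≫ hV.isoSpec.hom))
  haveI : QuasiCompact (X₁ ↘ Spec (CommRingCat.of Γ(S, V))) :=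
    inferInstanceAs (QuasiCompact (f ∣_ V ≫ hV.isoSpec.hom))
  haveI : CompactSpace X₁ := QuasiCompact.compactSpace_of_compactSpace (X₁ ↘ Spec (CommRingCat.of Γ(S, V)))
  haveI : X₁.IsSeparated := ⟨by
    rw [← terminal.comp_from (X₁ ↘ Spec (CommRingCat.of Γ(S, V)))]
    infer_instance⟩
  obtain ⟨ι, _, U, hcov, hU₀⟩ := exists_finite_affine_cover X₁
  have hU := isAffineOpen_tupOpen (U := U) hU₀
  have hF₁ : Coh.IsQCoh (resU f F V) := M1.isQCoh_restrict hF _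
  obtain ⟨ν, hν⟩ := Computes.exists_kEquiv hP hF₁ hcov hU
  let μ : ∀ M : ModuleCat.{u} Γ(S, V), CohIII.T P (-((0 : ℕ) : ℤ)) M ≃ₗ[Γ(S, V)]
      CohIII.T (K Γ(S, V) U (resU f F V)) ((0 : ℕ) : ℤ) M := fun M =>
    (ν 0 M).trans ((downIso (K Γ(S, V) U (resU f F V)) (0 : ℕ)).app M).toLinearEquiv
  have hμ : ∀ {M M' : ModuleCat.{u} Γ(S, V)} (l : M ⟶ M') x,
      μ M' ((CohIII.TFun P (-((0 : ℕ) : ℤ))).map l x) =
        (CohIII.TFun (K Γ(S, V) U (resU f F V)) ((0 : ℕ) : ℤ)).map l (μ M x) := fun {M M'} l x =>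
    (congrArg ((downIso (K Γ(S, V) U (resU f F V)) (0 : ℕ)).app M').toLinearEquiv (hν 0 l x)).trans
      (ConcreteCategory.congr_hom ((downIso (K Γ(S, V) U (resU f F V)) (0 : ℕ)).hom.naturality l) (ν 0 M x))
  let s₀ : Γ((Scheme.Modules.pushforward f).obj F, V) ≃+ Coh.HHon X F (f ⁻¹ᵁ V) 0 := CohPull.sectH0 F (f ⁻¹ᵁ V)
  let e₀ : Γ((Scheme.Modules.pushforward f).obj F, V) ≃ₗ[Γ(S, V)] Coh.HH X₁ (resU f F V) 0 :=
    s₀.toLinearEquiv (R := Γ(S, V)) fun c x => sectH0_smul f c _ (toGlobal_overU f hV c) F x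
  refine ⟨((μ _).trans (phiModel hcov hU hF₁ 0)).trans e₀.symm, fun {X' S' g f' g'} h {W} hW eW => ?_⟩
  letI := (g.appLE V W eW).hom.toAlgebra
  haveI : QuasiCompact f' := MorphismProperty.of_isPullback h inferInstance
  haveI : IsSeparated f' := MorphismProperty.of_isPullback h inferInstance
  letI := overU f' hW
  let X₂ : Scheme.{u} := (f' ⁻¹ᵁ W : X'.Opens)
  letI : X₂.Over (Spec (CommRingCat.of Γ(S, V))) := ⟨(X₂ ↘ Spec (CommRingCat.of Γ(S', W))) ≫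
    Spec.map (CommRingCat.ofHom (algebraMap Γ(S, V) Γ(S', W)))⟩
  have eU : f' ⁻¹ᵁ W ≤ g' ⁻¹ᵁ (f ⁻¹ᵁ V) := le_preimage_of_le (w := h.w) eW
  let g₁ : X₂ ⟶ X₁ := g'.resLE (f ⁻¹ᵁ V) (f' ⁻¹ᵁ W) eU
  have hsq : Sq (A := Γ(S, V)) (B := Γ(S', W)) g₁ := ⟨isPullback_affine h hV hW eW eU, rfl⟩
  haveI := affine_of_sq hsq
  obtain ⟨Φ', hΦ⟩ := exists_pullModel_phi hcov hU hsq hF₁ (CohPull.pullOnIso g' (f ⁻¹ᵁ V) (f' ⁻¹ᵁ W) eU F)
  let s₁ : Γ((Scheme.Modules.pushforward f').obj ((Scheme.Modules.pullback g').obj F), W) ≃+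
      Coh.HHon X' ((Scheme.Modules.pullback g').obj F) (f' ⁻¹ᵁ W) 0 :=
    CohPull.sectH0 ((Scheme.Modules.pullback g').obj F) (f' ⁻¹ᵁ W)
  refine ⟨((μ _).toAddEquiv.trans (Φ' 0)).trans s₁.symm, fun z => s₁.injective ?_⟩
  refine Eq.trans ?_ (s₁.apply_symm_apply _).symm
  refine (pullOn_sectH0 g' (f ⁻¹ᵁ V) (f' ⁻¹ᵁ W) eU F _).symm.trans ?_
  refine (congrArg (CohPull.pullOn g' (f ⁻¹ᵁ V) (f' ⁻¹ᵁ W) eU F 0)
    (s₀.apply_symm_apply (phiModel hcov hU hF₁ 0 (μ _ z)))).trans ?_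
  exact (pullOn_eq g' _ _ eU F 0 _).trans ((hΦ 0 _).trans (congrArg (Φ' 0) (hμ _ z).symm))

end Groth.Agent.CBC10
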